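import Mathlib.LinearAlgebra.PiTensorProduct.Basis
import Mathlib.RingTheory.PowerSeries.Basic
import Mathlib.LinearAlgebra.Trace
import Mathlib.LinearAlgebra.Determinant
import Mathlib.LinearAlgebra.TensorProduct.Basis
import Mathlib.Data.Sym.Basic
import Mathlib.Data.Finsupp.Multiset
import Mathlib.FieldTheory.IsAlgClosed.AlgebraicClosure
import Mathlib.RingTheory.MvPolynomial.Basic
import Mathlib.LinearAlgebra.Matrix.Block
import Groth.Agent.Lib.RedNorm.Matrix

/-!
Traces on symmetric tensors: `det (1 - X U) * ∑ tr (Γⁿ U) Xⁿ = 1`.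
-/

universe u v

open scoped TensorProduct

namespace GrothLib.MacMahon

variable {r n : ℕ}

/-- The multiset of values of a tuple. -/
def mult (f : Fin n → Fin r) : Sym (Fin r) n :=
  ⟨(Finset.univ : Finset (Fin n)).val.map f, by simp⟩

theorem mult_comp (f : Fin n → Fin r) (σ : Equiv.Perm (Fin n)) : mult (f ∘ σ) = mult f := by
  apply Subtype.ext
  simp only [mult]
  simpa [Function.comp_def] using σ.ofFn_comp_perm f

theorem exists_perm_of_mult_eq {f g : Fin n → Fin r} (h : mult f = mult g) :
    ∃ σ : Equiv.Perm (Fin n), g = f ∘ σ := by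
  have hc : ∀ c, Fintype.card {a // g a = c} = Fintype.card {a // f a = c} := fun c => by
    have := congrArg (fun s : Sym (Fin r) n => (s : Multiset (Fin r)).count c) h
    simp only [mult, Sym.coe_mk, Multiset.count_map] at this
    simp only [Fintype.card_subtype]
    simp only [Finset.card_def, Finset.filter_val]
    simpa [eq_comm] using this.symm
  refine ⟨Equiv.ofFiberEquiv fun c => Fintype.equivOfCardEq (hc c), funext fun a => ?_⟩
  exact (Equiv.ofFiberEquiv_map (f := g) (g := f) _ a).symm

theorem exists_mult_eq (m : Sym (Fin r) n) : ∃ f : Fin n → Fin r, mult f = m := by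
  obtain ⟨s, hs⟩ := m
  induction s using Quotient.inductionOn with
  | h l =>
    have hl : l.length = n := hs
    subst hl
    refine ⟨l.get, Subtype.ext ?_⟩
    simp [mult]

/-- A chosen tuple with given multiset of values. -/
noncomputable def rep (m : Sym (Fin r) n) : Fin n → Fin r := (exists_mult_eq m).choose

theorem mult_rep (m : Sym (Fin r) n) : mult (rep m) = m := (exists_mult_eq m).choose_spec

section Ring

variable {A : Type u} [CommRing A]

/-- The trace of the action of a matrix on symmetric tensors. -/
noncomputable def symTr (U : Matrix (Fin r) (Fin r) A) (n : ℕ) : A :=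
  ∑ m : Sym (Fin r) n, ∑ f : Fin n → Fin r, if mult f = m then ∏ i, U (rep m i) (f i) else 0

theorem map_symTr {B : Type v} [CommRing B] (φ : A →+* B) (U : Matrix (Fin r) (Fin r) A) (n : ℕ) :
    φ (symTr U n) = symTr (U.map φ) n := by
  simp [symTr, map_sum, apply_ite φ, map_prod]

/-- `det (1 - X U)` as a polynomial. -/
noncomputable def revCp (U : Matrix (Fin r) (Fin r) A) : Polynomial A :=
  (1 - (Polynomial.X : Polynomial A) • U.map (algebraMap A (Polynomial A))).det

theorem map_revCp {B : Type v} [CommRing B] (φ : A →+* B) (U : Matrix (Fin r) (Fin r) A) :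
    (revCp U).map φ = revCp (U.map φ) := by
  unfold revCp
  rw [← Polynomial.coe_mapRingHom, RingHom.map_det]
  congr 1
  ext1 i j
  by_cases h : i = j <;>
    simp [RingHom.mapMatrix_apply, Matrix.map_apply, Matrix.one_apply, h]

/-- The identity `det (1 - X U) * ∑ tr (Γⁿ U) Xⁿ = 1`. -/
def Master (U : Matrix (Fin r) (Fin r) A) : Prop :=
  (revCp U : PowerSeries A) * PowerSeries.mk (symTr U) = 1

theorem master_map {B : Type v} [CommRing B] (φ : A →+* B) (U : Matrix (Fin r) (Fin r) A) :
    PowerSeries.map φ ((revCp U : PowerSeries A) * PowerSeries.mk (symTr U)) =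
      (revCp (U.map φ) : PowerSeries B) * PowerSeries.mk (symTr (U.map φ)) := by
  rw [map_mul, ← map_revCp, Polynomial.polynomial_map_coe]
  congr 1
  ext k
  simp [map_symTr]

section Sym

variable {M : Type u} [AddCommGroup M] [Module A M] (b : Module.Basis (Fin r) A M)

/-- Symmetric tensors. -/
abbrev symTensors (A : Type u) [CommRing A] (M : Type u) [AddCommGroup M] [Module A M] (n : ℕ) :
    Submodule A (⨂[A] _i : Fin n, M) :=
  ⨅ σ : Equiv.Perm (Fin n),
    LinearMap.eqLocus ((PiTensorProduct.reindex A (fun _ : Fin n => M) σ).toLinearMap) LinearMap.id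

theorem repr_reindex (σ : Equiv.Perm (Fin n)) (x : ⨂[A] _i : Fin n, M) (f : Fin n → Fin r) :
    (Basis.piTensorProduct fun _ : Fin n => b).repr
        (PiTensorProduct.reindex A (fun _ : Fin n => M) σ x) f =
      (Basis.piTensorProduct fun _ : Fin n => b).repr x (f ∘ σ) := by
  induction x using PiTensorProduct.induction_on with
  | smul_tprod a v =>
    rw [map_smul, PiTensorProduct.reindex_tprod]
    simp only [map_smul, Finsupp.coe_smul, Pi.smul_apply, Basis.piTensorProduct_repr_tprod_apply]
    congr 1
    exact Fintype.prod_equiv σ.symm _ _ fun i => by simp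
  | add y z hy hz => simp [map_add, hy, hz]

theorem mem_symTensors_iff (x : ⨂[A] _i : Fin n, M) :
    x ∈ symTensors A M n ↔ ∀ f g : Fin n → Fin r, mult f = mult g →
      (Basis.piTensorProduct fun _ : Fin n => b).repr x f =
        (Basis.piTensorProduct fun _ : Fin n => b).repr x g := by
  simp only [symTensors, Submodule.mem_iInf, LinearMap.mem_eqLocus, LinearMap.id_coe, id_eq,
    LinearEquiv.coe_coe]
  constructor
  · intro h f g hfg
    obtain ⟨σ, rfl⟩ := exists_perm_of_mult_eq hfg
    rw [← repr_reindex, h]
  · intro h σ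
    refine (Basis.piTensorProduct fun _ : Fin n => b).ext_elem fun f => ?_
    rw [repr_reindex]
    exact h _ _ (mult_comp f σ)

theorem repr_equivFun_symm {ι : Type*} [Fintype ι] {N : Type*} [AddCommGroup N] [Module A N]
    (B : Module.Basis ι A N) (g : ι → A) (i : ι) : B.repr (B.equivFun.symm g) i = g i := by
  rw [← Module.Basis.equivFun_apply, LinearEquiv.apply_symm_apply]

theorem symmetrise_mem (c : Sym (Fin r) n → A) :
    (Basis.piTensorProduct fun _ : Fin n => b).equivFun.symm (fun f => c (mult f)) ∈
      symTensors A M n := by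
  rw [mem_symTensors_iff b]
  intro f g hfg
  rw [repr_equivFun_symm, repr_equivFun_symm, hfg]

/-- Coordinates of symmetric tensors. -/
noncomputable def symEquiv : symTensors A M n ≃ₗ[A] (Sym (Fin r) n → A) where
  toFun x m := (Basis.piTensorProduct fun _ : Fin n => b).repr (x : ⨂[A] _i : Fin n, M) (rep m)
  map_add' x y := by ext m; simp
  map_smul' a x := by ext m; simp
  invFun c := ⟨_, symmetrise_mem b c⟩
  left_inv x := Subtype.ext <| (Basis.piTensorProduct fun _ : Fin n => b).ext_elem fun f =>
    (repr_equivFun_symm _ _ f).trans ((mem_symTensors_iff b _).1 x.2 _ _ (mult_rep _))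
  right_inv c := funext fun m =>
    (repr_equivFun_symm _ _ (rep m)).trans (congrArg c (mult_rep m))

theorem symEquiv_apply (x : symTensors A M n) (m : Sym (Fin r) n) :
    symEquiv b x m =
      (Basis.piTensorProduct fun _ : Fin n => b).repr (x : ⨂[A] _i : Fin n, M) (rep m) := rfl

theorem symEquiv_symm_coe (c : Sym (Fin r) n → A) :
    ((symEquiv b).symm c : ⨂[A] _i : Fin n, M) =
      (Basis.piTensorProduct fun _ : Fin n => b).equivFun.symm (fun f => c (mult f)) := rfl

theorem repr_map_symmetrise (u : M →ₗ[A] M) (c : Sym (Fin r) n → A) (g : Fin n → Fin r) :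
    (Basis.piTensorProduct fun _ : Fin n => b).repr (PiTensorProduct.map (fun _ : Fin n => u)
      ((Basis.piTensorProduct fun _ : Fin n => b).equivFun.symm fun f => c (mult f))) g =
    ∑ f : Fin n → Fin r, c (mult f) * ∏ i, LinearMap.toMatrix b b u (g i) (f i) := by
  rw [Module.Basis.equivFun_symm_apply, map_sum, map_sum, Finsupp.finsetSum_apply]
  refine Finset.sum_congr rfl fun f _ => ?_
  rw [map_smul, map_smul, Finsupp.smul_apply, Basis.piTensorProduct_apply, PiTensorProduct.map_tprod,
    Basis.piTensorProduct_repr_tprod_apply, smul_eq_mul]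
  exact congrArg _ (Finset.prod_congr rfl fun i _ => (LinearMap.toMatrix_apply b b u _ _).symm)

theorem trace_eq_symTr (u : M →ₗ[A] M) (γ : symTensors A M n →ₗ[A] symTensors A M n)
    (hγ : ∀ x : symTensors A M n,
      (γ x : ⨂[A] _i : Fin n, M) = PiTensorProduct.map (fun _ : Fin n => u) (x : ⨂[A] _i : Fin n, M)) :
    LinearMap.trace A _ γ = symTr (LinearMap.toMatrix b b u) n := by
  classical
  rw [LinearMap.trace_eq_matrix_trace A (Module.Basis.ofEquivFun (symEquiv b)), Matrix.trace, symTr]
  refine Finset.sum_congr rfl fun m _ => ?_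
  rw [Matrix.diag_apply, LinearMap.toMatrix_apply, Module.Basis.ofEquivFun_repr_apply,
    Module.Basis.coe_ofEquivFun, symEquiv_apply, hγ, symEquiv_symm_coe, repr_map_symmetrise]
  refine Finset.sum_congr rfl fun f _ => ?_
  rw [Pi.single_apply]
  split_ifs <;> simp

theorem toMatrix_id_sub_smul {R : Type*} [CommRing R] {V : Type*} [AddCommGroup V] [Module R V]
    {ι : Type*} [Fintype ι] [DecidableEq ι] (B : Module.Basis ι R V) (c : R) (g : V →ₗ[R] V) :
    LinearMap.toMatrix B B (LinearMap.id - c • g) = 1 - c • LinearMap.toMatrix B B g := by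
  simp [LinearMap.toMatrix_id]

theorem det_eq_revCp (u : M →ₗ[A] M) :
    LinearMap.det (LinearMap.id - (Polynomial.X : Polynomial A) • u.baseChange (Polynomial A)) =
      revCp (LinearMap.toMatrix b b u) := by
  refine (LinearMap.det_toMatrix (Algebra.TensorProduct.basis (Polynomial A) b) _).symm.trans ?_
  refine congrArg Matrix.det ?_
  refine (toMatrix_id_sub_smul _ _ _).trans ?_
  rw [LinearMap.toMatrix_baseChange]

end Sym

theorem geom_series (c : A) :
    ((1 - Polynomial.X * Polynomial.C c : Polynomial A) : PowerSeries A) *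
      PowerSeries.mk (fun k => c ^ k) = 1 := by
  push_cast
  rw [sub_mul, one_mul, mul_assoc]
  ext k
  rcases k with - | k
  · simp
  · simp [PowerSeries.coeff_succ_X_mul, pow_succ, mul_comm c]

theorem coeff_prod_geom (c : Fin r → A) (k : ℕ) :
    PowerSeries.coeff k (∏ a, PowerSeries.mk fun j => c a ^ j) =
      ∑ m : Sym (Fin r) k, ∏ a, c a ^ (m : Multiset (Fin r)).count a := by
  classical
  rw [PowerSeries.coeff_prod]
  symm
  refine Finset.sum_bij (fun m _ => Multiset.toFinsupp (m : Multiset (Fin r))) ?_ ?_ ?_ ?_
  · intro m _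
    refine Finset.mem_finsuppAntidiag.2 ⟨?_, Finset.subset_univ _⟩
    exact (Multiset.sum_count_eq_card (s := Finset.univ) (fun a _ => Finset.mem_univ a)).trans m.2
  · intro m _ m' _ h
    exact Subtype.ext (Multiset.toFinsupp.injective h)
  · intro l hl
    simp only [Finset.mem_finsuppAntidiag] at hl
    refine ⟨⟨Finsupp.toMultiset l, ?_⟩, Finset.mem_univ _,
      Finsupp.toMultiset_toFinsupp l⟩
    rw [Finsupp.card_toMultiset, Finsupp.sum_fintype _ _ (fun _ => rfl)]
    exact hl.1
  · intro m _
    simp

theorem symTr_triangular {U : Matrix (Fin r) (Fin r) A} (hU : U.BlockTriangular id) (k : ℕ) :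
    symTr U k = ∑ m : Sym (Fin r) k, ∏ a, U a a ^ (m : Multiset (Fin r)).count a := by
  classical
  refine Finset.sum_congr rfl fun m _ => ?_
  rw [Finset.sum_eq_single (rep m)]
  · rw [if_pos (mult_rep m)]
    conv_rhs => rw [← mult_rep m]
    have h := Finset.prod_multiset_map_count
      ((Finset.univ : Finset (Fin k)).val.map (rep m)) (fun a => U a a)
    rw [Multiset.map_map] at h
    refine h.trans ?_
    refine Finset.prod_subset (Finset.subset_univ _) fun a _ ha => ?_
    rw [Multiset.count_eq_zero.2 (by simpa [Multiset.mem_toFinset] using ha), pow_zero]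
  · intro f _ hf
    split_ifs with hm
    · by_contra h
      have hle : ∀ i ∈ (Finset.univ : Finset (Fin k)), (rep m i : ℕ) ≤ (f i : ℕ) := fun i hi => by
        by_contra hlt
        exact h (Finset.prod_eq_zero hi (hU (show f i < rep m i from not_le.1 hlt)))
      have hsum : ∑ i, (rep m i : ℕ) = ∑ i, (f i : ℕ) := by
        have h' := congrArg (fun s : Sym (Fin r) k => ((s : Multiset (Fin r)).map Fin.val).sum)
          ((mult_rep m).trans hm.symm)
        simpa [mult, Multiset.map_map, Finset.sum, Function.comp_def] using h'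
      exact hf (funext fun i => Fin.ext
        ((Finset.sum_eq_sum_iff_of_le hle).1 hsum i (Finset.mem_univ i)).symm)
    · rfl
  · simp

theorem master_triangular {U : Matrix (Fin r) (Fin r) A} (hU : U.BlockTriangular id) : Master U := by
  classical
  have hT : (1 - (Polynomial.X : Polynomial A) •
      U.map (algebraMap A (Polynomial A))).BlockTriangular id := fun i j hij => by
    simp [Matrix.one_apply_ne (ne_of_gt (show j < i from hij)), hU hij]
  have hs : PowerSeries.mk (symTr U) = ∏ a, PowerSeries.mk fun j => U a a ^ j := by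
    ext k
    rw [PowerSeries.coeff_mk, coeff_prod_geom, symTr_triangular hU]
  rw [Master, revCp, Matrix.det_of_isUpperTriangular hT, hs, ← Polynomial.coeToPowerSeries.ringHom_apply,
    map_prod, ← Finset.prod_mul_distrib]
  refine Finset.prod_eq_one fun a _ => ?_
  rw [Polynomial.coeToPowerSeries.ringHom_apply]
  simpa [Polynomial.algebraMap_eq] using geom_series (U a a)

end Ring

theorem master_algClosed {L : Type u} [Field L] [IsAlgClosed L] (U : Matrix (Fin r) (Fin r) L) :
    Master U := by
  classical
  obtain ⟨b, hb⟩ := GrothLib.RedNorm.exists_flag r (Fin r → L) (by simp) (Matrix.toLin' U)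
  let u := Matrix.toLin' U
  let e := Pi.basisFun L (Fin r)
  have hU : LinearMap.toMatrix e e u = U := by
    rw [LinearMap.toMatrix_eq_toMatrix', LinearMap.toMatrix'_toLin']
  have hT : (LinearMap.toMatrix b b u).BlockTriangular id := fun i j hij => by
    rw [LinearMap.toMatrix_apply]
    by_contra hne
    have h1 := b.mem_span_image.1 (hb j)
    exact absurd (h1 (Finsupp.mem_support_iff.2 hne)) (not_le.2 hij)
  have h2 : symTr U = symTr (LinearMap.toMatrix b b u) := funext fun k => by
    have hmem : ∀ x ∈ symTensors L (Fin r → L) k,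
        PiTensorProduct.map (fun _ : Fin k => u) x ∈ symTensors L (Fin r → L) k := by
      intro x hx
      simp only [symTensors, Submodule.mem_iInf, LinearMap.mem_eqLocus, LinearMap.id_coe, id_eq,
        LinearEquiv.coe_coe] at hx ⊢
      intro σ
      rw [← PiTensorProduct.map_reindex, hx]
    let γ := (PiTensorProduct.map (fun _ : Fin k => u)).restrict hmem
    rw [← trace_eq_symTr b u γ fun _ => rfl, trace_eq_symTr e u γ fun _ => rfl, hU]
  have h := master_triangular hT
  rw [Master, ← det_eq_revCp b u, det_eq_revCp e u, hU, ← h2] at h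
  exact h

theorem master {A : Type u} [CommRing A] (U : Matrix (Fin r) (Fin r) A) : Master U := by
  let R := MvPolynomial (Fin r × Fin r) ℤ
  let U₀ : Matrix (Fin r) (Fin r) R := Matrix.of fun i j => MvPolynomial.X (i, j)
  have h₀ : Master U₀ := by
    let L := AlgebraicClosure (FractionRing R)
    let ι : R →+* L := (algebraMap (FractionRing R) L).comp (algebraMap R (FractionRing R))
    have hι : Function.Injective ι :=
      (algebraMap (FractionRing R) L).injective.comp (IsFractionRing.injective R (FractionRing R))
    refine PowerSeries.map_injective ι hι ?_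
    rw [master_map, map_one]
    exact master_algClosed _
  let φ : R →+* A := MvPolynomial.eval₂Hom (Int.castRingHom A) fun p => U p.1 p.2
  have h := congrArg (PowerSeries.map φ) h₀
  have hU : U₀.map φ = U := by
    ext i j
    exact MvPolynomial.eval₂Hom_X' _ _ _
  rwa [master_map, map_one, hU] at h

end GrothLib.MacMahon
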